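import Cfsg.Agent.OD.Pre
import Cfsg.Agent.H6.Top2
import Cfsg.Agent.H6.McA.D0
set_option autoImplicit false
set_option maxRecDepth 100000
set_option Elab.async false
set_option linter.all false
namespace CfH6.McA
open CfH6 MulAction
noncomputable def n0_0 : Net := mkNet (nat_lit 320) [(nat_lit 160, k0), (nat_lit 80, k1), (nat_lit 40, k2), (nat_lit 20, k3), (nat_lit 10, k4), (nat_lit 5, k5)] [(k6, nat_lit 1), (k7, nat_lit 1), (k8, nat_lit 1), (k9, nat_lit 1), (k10, nat_lit 1)]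
noncomputable def n0_1 : Net := mkNet (nat_lit 320) [(nat_lit 160, k11), (nat_lit 80, k12), (nat_lit 40, k13), (nat_lit 20, k14), (nat_lit 10, k15), (nat_lit 5, k16)] [(k17, nat_lit 1), (k18, nat_lit 1), (k19, nat_lit 1), (k20, nat_lit 1), (k21, nat_lit 1)]
noncomputable def n0_2 : Net := mkNet (nat_lit 320) [(nat_lit 160, k22), (nat_lit 80, k23), (nat_lit 40, k24), (nat_lit 20, k25), (nat_lit 10, k26), (nat_lit 5, k27)] [(k28, nat_lit 1), (k29, nat_lit 1), (k30, nat_lit 1), (k31, nat_lit 1), (k32, nat_lit 1)]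
noncomputable def n0_3 : Net := mkNet (nat_lit 320) [(nat_lit 160, k33), (nat_lit 80, k34), (nat_lit 40, k35), (nat_lit 20, k36), (nat_lit 10, k37), (nat_lit 5, k38)] [(k39, nat_lit 1), (k40, nat_lit 1), (k41, nat_lit 1), (k42, nat_lit 1), (k43, nat_lit 1)]
noncomputable def n0_4 : Net := mkNet (nat_lit 320) [(nat_lit 160, k44), (nat_lit 80, k45), (nat_lit 40, k46), (nat_lit 20, k47), (nat_lit 10, k48), (nat_lit 5, k49)] [(k50, nat_lit 1), (k51, nat_lit 1), (k52, nat_lit 1), (k53, nat_lit 1), (k54, nat_lit 1)]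
noncomputable def n0_5 : Net := mkNet (nat_lit 320) [(nat_lit 160, k55), (nat_lit 80, k56), (nat_lit 40, k57), (nat_lit 20, k58), (nat_lit 10, k59), (nat_lit 5, k60)] [(k61, nat_lit 1), (k62, nat_lit 1), (k63, nat_lit 1), (k64, nat_lit 1), (k65, nat_lit 1)]
noncomputable def n2_0 : Net := mkNet (nat_lit 64) [(nat_lit 32, (nat_lit 0xad3b9106b736a18e)), (nat_lit 16, (nat_lit 0x8de9a9508ba28aa2)), (nat_lit 8, (nat_lit 0x56645148151ce2e8)), (nat_lit 4, (nat_lit 0xaee42a48c0f8f2ec)), (nat_lit 2, (nat_lit 0x6ec0e8400ec04cc0))] [((nat_lit 0x1451404401444510), nat_lit 1)]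
noncomputable def n2_1 : Net := mkNet (nat_lit 64) [(nat_lit 32, (nat_lit 0xdf7e4900df7e4900)), (nat_lit 16, (nat_lit 0x8ef0869072247224)), (nat_lit 8, (nat_lit 0xe0e09a9a616cc8c8)), (nat_lit 4, (nat_lit 0xc0aa90b00000f0cc)), (nat_lit 2, (nat_lit 0x80caac280ea4ccc0))] [((nat_lit 0x4501154011444150), nat_lit 1)]
noncomputable def n2_2 : Net := mkNet (nat_lit 64) [(nat_lit 32, (nat_lit 0x8718000087180000)), (nat_lit 16, (nat_lit 0xdbd8dbd800000000)), (nat_lit 8, (nat_lit 0xb4b41a1a3838c0c0)), (nat_lit 4, (nat_lit 0x3cc800cc52926200)), (nat_lit 2, (nat_lit 0x4ea8acc0e428a800))] [((nat_lit 0x4110105541111010), nat_lit 1)]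
noncomputable def n3_0 : Net := mkNet (nat_lit 16) [(nat_lit 8, (nat_lit 0x3030)), (nat_lit 4, (nat_lit 0x54aa)), (nat_lit 2, (nat_lit 0xa0a8))] [((nat_lit 0x4010), nat_lit 1)]
noncomputable def n3_1 : Net := mkNet (nat_lit 16) [(nat_lit 8, (nat_lit 0x3030)), (nat_lit 4, (nat_lit 0x2200)), (nat_lit 2, (nat_lit 0))] [((nat_lit 0x550), nat_lit 1)]
noncomputable def n3_2 : Net := mkNet (nat_lit 16) [(nat_lit 8, (nat_lit 0xc0c0)), (nat_lit 4, (nat_lit 0x6200)), (nat_lit 2, (nat_lit 0xa800))] [((nat_lit 0x1010), nat_lit 1)]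
noncomputable def n4_0 : Net := mkNet (nat_lit 16) [(nat_lit 8, (nat_lit 0xd0c0)), (nat_lit 4, (nat_lit 0x800)), (nat_lit 2, (nat_lit 0x4400))] [((nat_lit 0x410), nat_lit 1)]
noncomputable def n5_0 : Net := mkNet (nat_lit 10) [(nat_lit 5, (nat_lit 0))] [((nat_lit 0x40), nat_lit 1), ((nat_lit 0xa0), nat_lit 1)]
noncomputable def nets0 : List Net := [n0_0, n0_1, n0_2, n0_3, n0_4, n0_5]
noncomputable def nets1 : List Net := [n0_0, n0_1, n0_2, n0_3, n0_5]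
def ws1 : List (List ℕ) := [[0],
  [1],
  [2],
  [3],
  [5]]
noncomputable def nets2 : List Net := [n2_0, n2_1, n2_2]
def ws2 : List (List ℕ) := [[3, 1, 3, 2, 1],
  [0],
  [4]]
noncomputable def nets3 : List Net := [n3_0, n3_1, n3_2]
def ws3 : List (List ℕ) := [[0, 0, 2, 1, 0, 0, 2, 1],
  [0, 1, 0, 0, 0, 1],
  [2]]
noncomputable def nets4 : List Net := [n4_0, n3_2]
def ws4 : List (List ℕ) := [[0, 2, 0, 1, 0, 1],
  [2]]
noncomputable def nets5 : List Net := [n5_0]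
def ws5 : List (List ℕ) := [[0, 0, 1, 0, 0, 1, 0]]
def sig : List (List ℕ) := [[0],
  [1],
  [2],
  [3],
  [4],
  [5]]
def eqs0 : List (List ℕ × List ℕ) := [([0, 0], []),
  ([1, 1], []),
  ([2, 2], []),
  ([3, 3], []),
  ([4, 4], []),
  ([5, 5], []),
  ([0, 1], [1, 0]),
  ([0, 2, 0], [2, 0, 2]),
  ([0, 3], [3, 0]),
  ([0, 4], [4, 0]),
  ([0, 5, 0], [5, 0, 5]),
  ([1, 2, 1], [2, 1, 2]),
  ([1, 3, 1, 3], [3, 1, 3, 1]),
  ([1, 4], [4, 1]),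
  ([1, 5, 1, 5], [5, 1, 5, 1]),
  ([2, 3, 2], [3, 2, 3]),
  ([2, 4], [4, 2]),
  ([2, 5], [5, 2]),
  ([3, 4, 3], [4, 3, 4]),
  ([3, 5, 3], [5, 3, 5]),
  ([4, 5], [5, 4]),
  ([1, 2, 3, 1, 2, 3, 1, 2], [3, 2, 1, 3, 2, 1, 3]),
  ([0, 1, 2, 3, 2, 0, 1, 2, 3, 2, 0, 1, 2], [2, 3, 2, 0, 1, 2, 3, 2, 0, 1, 2, 3]),
  ([0, 1, 2, 0, 1, 3, 1, 2, 0, 1, 3, 1, 2], [3, 1, 2, 0, 1, 3, 1, 2, 0, 1, 3, 1]),
  ([1, 3, 1, 3, 4], [4, 3, 1, 3]),
  ([0, 1, 2, 0, 3, 1, 3, 2, 5, 0, 1, 3], [3, 1, 3, 2, 5, 0, 3, 1, 2, 3, 2, 1]),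
  ([1, 3, 5, 1, 3], [5, 3, 1, 5])]
def eqs : List (List ℕ × List ℕ) := eqs0
def lU : List (ℕ × ℕ) := [(0, 9), (10, 4), (16, 45), (64, 217)]
noncomputable def U : ℕ := ivls lU
def l1 : List (ℕ × ℕ) := [(1, 8), (10, 4), (16, 45), (64, 105)]
noncomputable def S1 : ℕ := ivls l1
def w1 : List ℕ := [4]
def l2 : List (ℕ × ℕ) := [(169, 112)]
noncomputable def S2 : ℕ := ivls l2
def w2 : List ℕ := [4, 3, 5, 0, 2, 3, 4]
noncomputable def J : List (List ℕ × ℕ × ℕ) := [(w1, 1, S1), (w2, 169, S2)]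
def lBig : List (ℕ × ℕ) := [(1, 8), (10, 4), (16, 45), (64, 105)]
noncomputable def J2 : List (List ℕ × ℕ × ℕ) := [([4, 3, 0, 0, 1, 0], 1, S1)]
noncomputable def J1 : List (List ℕ × ℕ × ℕ) := [([0], 1, S1)]
def ex : List (List ℕ) := [[0, 2, 4, 3, 1]]
def bs' : List ℕ := [0, 1, 2, 3, 4, 5]
end CfH6.McA
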